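import Cfsg.Agent.Lib.Helper3.Spec.Basic
import Cfsg.Agent.S0144

/-!
# A fixed-point-free group of order 24 of 4 × 4 matrices modulo 7
-/

set_option autoImplicit false
set_option maxRecDepth 100000

namespace Cfsg.Agent.Lib.Helper3.Spec.H24

open Cfsg.Agent.Lib.Helper3.Spec Matrix

set_option maxHeartbeats 0

/-- the model group of order 24 -/
structure MH : Type where
  /-- the code -/
  v : Fin 24
  deriving DecidableEq, Fintype

/-- the multiplication table -/
def MTAB : ℕ := 0x49350f41130d38928b1872021050015435975124d13d038c34b24a2061c50840c05c15564d449044f34e30a2c91c81841420435805d540f44d30e2892c71881021410035954d74943d140c38d24b2862070851000c15574965134503ce34c2ca2481c61440830405d65154d230d38928b1872021050010d55974933d441138c34b24a2061c50840c00575565124533d034e30a2c91c81841420430165d54d441244f2892c71881021410035955d349440f35130e24b2862070851000c15575925133d131038d2ca2481c61440830405d65544d245038f34c1872021050010d559749350f41130d24e28b2061c50840c00575565124d13d038c2cd24a1c81841420430165d54d449044f34e28c2c91021410035955d349440f44d30e2891cb1880851000c15575925133d140c38d24b18a2071440830405d65544d24503ce34c2ca2091c60010d559749350f41130d38928b1870881050c00575565124d13d038c34b24a2061470845955d349440f44d30e2892c71881020450030430165d54d449044f34e30a2c91c81061425575925133d140c38d24b2862070850040c15d65544d24503ce34c2ca2481c61440c2040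
/-- the table of inverses -/
def IVT : ℕ := 0x1440872062ca24d38c4503d35125d60550c0
/-- the matrices -/
def MATS : ℕ := 0x500204000040000030040200002000006001010000100050020000003004003004000000500200600100000060010005000050300400000300003050020000060000606001000500005000030000330000300005000056000060000600006000200503000030000040030500005000001006060000600020050000004003004003000000200500100600000010060002000020400300000400004020050002000020000400004001000010100600040000400002000021000010000100001
/-- the inverses of the matrices minus one -/
def NINV : ℕ := 0x341133615234553334223352613466333444333434343333460014000026001226001200004600143400330000340033331143615233554333224352613366433344433434333343200002000040000440000400002000023000030000300003346633162534223334553325163411333433334343344433410064000021006221006200004100643300430000330043336643162533224333554325163311431000010000500005333343434333444350000500001000011000010000100001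

instance : Mul MH := ⟨fun x y => ⟨Fin.ofNat 24 ((MTAB >>> (6 * (24 * x.v.val + y.v.val))) % 64)⟩⟩
instance : One MH := ⟨⟨0⟩⟩
instance : Inv MH := ⟨fun x => ⟨Fin.ofNat 24 ((IVT >>> (6 * x.v.val)) % 64)⟩⟩

instance : Group MH :=
  Group.ofLeftAxioms (by decide +kernel) (by decide +kernel) (by decide +kernel)

/-- the matrix of an element -/
def mat (x : MH) : Matrix (Fin 4) (Fin 4) (ZMod 7) :=
  fun r c => (((MATS >>> (64 * x.v.val + 4 * (4 * r.val + c.val))) % 16 : ℕ) : ZMod 7)

/-- the inverse of the matrix of an element minus one -/
def ninv (x : MH) : Matrix (Fin 4) (Fin 4) (ZMod 7) :=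
  fun r c => (((NINV >>> (64 * x.v.val + 4 * (4 * r.val + c.val))) % 16 : ℕ) : ZMod 7)

theorem mat_mul : ∀ x y : MH, mat (x * y) = mat x * mat y := by
  decide +kernel

theorem mat_one : mat 1 = 1 := by
  decide +kernel

theorem ninv_mul : ∀ x : MH, x ≠ 1 → ninv x * (mat x - 1) = 1 := by
  decide +kernel

/-- the representation -/
def rho : MH →* Matrix (Fin 4) (Fin 4) (ZMod 7) where
  toFun := mat
  map_one' := mat_one
  map_mul' := mat_mul

theorem fpf : ∀ h : MH, h ≠ 1 → ∀ w, rho h *ᵥ w = w → w = 0 := by
  intro h hh w hw
  have h1 : (mat h - 1) *ᵥ w = 0 := by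
    rw [Matrix.sub_mulVec, Matrix.one_mulVec]
    exact sub_eq_zero.2 hw
  have h2 := congrArg (fun u => ninv h *ᵥ u) h1
  simp only [Matrix.mulVec_mulVec, ninv_mul h hh, Matrix.one_mulVec, Matrix.mulVec_zero] at h2
  exact h2

theorem pows : ∀ x : MH, ∃ k ∈ [8, 12], x ^ k = 1 := by
  decide +kernel

theorem ords : ∀ k ∈ [8, 12], ∃ x : MH, orderOf x = k := by
  intro k hk
  simp only [List.mem_cons, List.mem_nil_iff, or_false] at hk
  rcases hk with rfl | rfl
  · refine ⟨⟨2⟩, ?_⟩
    rw [orderOf_eq_iff (by norm_num)]
    decide +kernel
  · refine ⟨⟨7⟩, ?_⟩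
    rw [orderOf_eq_iff (by norm_num)]
    decide +kernel

theorem card_eq : Fintype.card MH = 24 := by decide +kernel

instance : Group.IsSolvable MH :=
  Cfsg.Agent.S0144.result 2 3 3 1 Nat.prime_two Nat.prime_three
    (by rw [Nat.card_eq_fintype_card, card_eq]; norm_num)

instance : NeZero 7 := ⟨by norm_num⟩

theorem spectrum : Set.range (orderOf : Aff rho → ℕ) = {e | ∃ k ∈ 7 :: [8, 12], e ∣ k} :=
  Aff.spectrum (by norm_num) (by norm_num) fpf [8, 12] (by decide) pows ords

theorem solvable : Group.IsSolvable (Aff rho) := Aff.solvable

end Cfsg.Agent.Lib.Helper3.Spec.H24
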